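import Mathlib.RepresentationTheory.Homological.GroupCohomology.LowDegree
import Mathlib.RepresentationTheory.Rep.Res
import Mathlib.Algebra.Category.ModuleCat.Abelian
import Mathlib.Algebra.Homology.ShortComplex.ShortExact
import Mathlib.GroupTheory.GroupAction.Quotient

/-!
# Coflasque lattices
-/

open CategoryTheory groupCohomology

noncomputable section

namespace Groth.Agent.Coflasque28

attribute [local instance 2000] Rep.hV2
attribute [-instance] AddCommGroup.toIntModule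

variable {Γ : Type} [Group Γ]

lemma isZero_H1_iff {G : Type} [Group G] (A : Rep ℤ G) :
    Limits.IsZero (groupCohomology A 1) ↔ ∀ f : cocycles₁ A, (f : G → A) ∈ coboundaries₁ A := by
  rw [ModuleCat.isZero_iff_subsingleton]
  refine ⟨fun h f => (H1π_eq_zero_iff f).1 (Subsingleton.elim _ _), fun h => ?_⟩
  have hs : Function.Surjective (H1π A) := (ModuleCat.epi_iff_surjective _).1 inferInstance
  refine ⟨fun x y => ?_⟩
  obtain ⟨a, rfl⟩ := hs x
  obtain ⟨b, rfl⟩ := hs y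
  rw [(H1π_eq_zero_iff a).2 (h a), (H1π_eq_zero_iff b).2 (h b)]

theorem splitting_of_H1 (Λ : Rep ℤ Γ)
    (h : ∀ Γ' : Subgroup Γ, Limits.IsZero (groupCohomology (Rep.res Γ'.subtype Λ) 1))
    (X : Type) [MulAction Γ X] (E : ShortComplex (Rep ℤ Γ)) (hE : E.ShortExact)
    (e₁ : E.X₁ ≅ Λ) (e₃ : E.X₃ ≅ Rep.ofMulAction ℤ Γ X) : Nonempty E.Splitting := by
  classical
  haveI := hE.mono_f
  haveI := hE.epi_g
  have hg : Function.Surjective E.g.hom := (Rep.epi_iff_surjective E.g).1 inferInstance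
  have hf : Function.Injective E.f.hom := (Rep.mono_iff_injective E.f).1 inferInstance
  have hex : ∀ y : E.X₂, E.g.hom y = 0 → ∃ z, E.f.hom z = y := by
    intro y hy
    have h1 := hE.exact.map (forget₂ (Rep ℤ Γ) (ModuleCat ℤ))
    exact ((ShortComplex.moduleCat_exact_iff _).1 h1) y hy
  let π : X → E.X₃ := fun x => e₃.inv.hom (MonoidAlgebra.single x (1 : ℤ))
  have hπ : ∀ (γ : Γ) x, E.X₃.ρ γ (π x) = π (γ • x) := fun γ x => by
    simp only [π]
    rw [← Rep.hom_comm_apply]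
    congr 1
    exact Representation.ofMulAction_single γ x 1
  -- lifts at representatives, fixed by the stabiliser
  have hlift : ∀ x : X, ∃ y : E.X₂, E.g.hom y = π x ∧ ∀ γ ∈ MulAction.stabilizer Γ x, E.X₂.ρ γ y = y := by
    intro x
    obtain ⟨y, hy⟩ := hg (π x)
    have hz : ∀ γ : MulAction.stabilizer Γ x, ∃ z, E.f.hom z = E.X₂.ρ γ y - y := fun γ => hex _ (by
      rw [map_sub, Rep.hom_comm_apply, hy, hπ, MulAction.mem_stabilizer_iff.1 γ.2, sub_self])
    choose z hz using hz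
    have hcoc : (fun γ => e₁.hom.hom (z γ)) ∈ cocycles₁ (Rep.res (MulAction.stabilizer Γ x).subtype Λ) := by
      refine (mem_cocycles₁_iff _).2 fun a b => ?_
      show e₁.hom.hom (z (a * b)) = Λ.ρ (a : Γ) (e₁.hom.hom (z b)) + e₁.hom.hom (z a)
      rw [← Rep.hom_comm_apply, ← map_add]
      congr 1
      refine hf ?_
      rw [map_add, Rep.hom_comm_apply, hz, hz, hz, Subgroup.coe_mul, map_mul, Module.End.mul_apply, map_sub]
      abel
    obtain ⟨lam, hlam⟩ := (isZero_H1_iff _).1 (h _) ⟨_, hcoc⟩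
    refine ⟨y - E.f.hom (e₁.inv.hom lam), ?_, fun γ hγ => ?_⟩
    · have hfg : E.g.hom (E.f.hom (e₁.inv.hom lam)) = 0 := by
        rw [← Rep.comp_apply, E.zero]; simp
      rw [map_sub, hfg, sub_zero, hy]
    · have h1 : Λ.ρ γ lam - lam = e₁.hom.hom (z ⟨γ, hγ⟩) := congrFun hlam ⟨γ, hγ⟩
      have h2 : E.X₂.ρ γ (E.f.hom (e₁.inv.hom lam)) - E.f.hom (e₁.inv.hom lam) = E.X₂.ρ γ y - y := by
        have h3 := congrArg (fun v => E.f.hom (e₁.inv.hom v)) h1
        simp only [map_sub, Rep.inv_hom_apply] at h3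
        rw [Rep.hom_comm_apply, Rep.hom_comm_apply, hz] at h3
        exact h3
      rw [map_sub, ← sub_eq_zero]
      rw [← sub_eq_zero] at h2
      rw [← neg_eq_zero, ← h2]
      abel
  choose y hy hfix using hlift
  let r : X → X := fun x => (Quotient.mk (MulAction.orbitRel Γ X) x).out
  have hr : ∀ (γ : Γ) x, r (γ • x) = r x := fun γ x =>
    congrArg Quotient.out (Quotient.sound (show (MulAction.orbitRel Γ X).r (γ • x) x from
      MulAction.orbitRel_apply.2 (MulAction.mem_orbit x γ)))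
  have ht : ∀ x, ∃ t : Γ, t • r x = x := fun x => by
    obtain ⟨t, ht⟩ := MulAction.orbitRel_apply.1 (Quotient.mk_out (s := MulAction.orbitRel Γ X) x)
    exact ⟨t⁻¹, by rw [show r x = t • x from ht.symm, inv_smul_smul]⟩
  choose t ht using ht
  let L : X → E.X₂ := fun x => E.X₂.ρ (t x) (y (r x))
  have hL : ∀ (γ : Γ) x, E.X₂.ρ γ (L x) = L (γ • x) := by
    intro γ x
    simp only [L]
    rw [hr]
    have hst : (t (γ • x))⁻¹ * γ * t x ∈ MulAction.stabilizer Γ (r x) := by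
      rw [MulAction.mem_stabilizer_iff, mul_smul, mul_smul, ht, inv_smul_eq_iff, ← hr γ x, ht]
    conv_rhs => rw [← hfix (r x) _ hst]
    simp only [← Module.End.mul_apply, ← map_mul]
    congr 2
    group
  have hgL : ∀ x, E.g.hom (L x) = π x := fun x => by
    simp only [L]
    rw [Rep.hom_comm_apply, hy, hπ, ht]
  let s₀ : MonoidAlgebra ℤ X →ₗ[ℤ] E.X₂ :=
    Finsupp.linearCombination ℤ L ∘ₗ (MonoidAlgebra.coeffLinearEquiv ℤ).toLinearMap
  have hs₀ : ∀ x, s₀ (MonoidAlgebra.single x 1) = L x := fun x => by simp [s₀]; exact E.X₂.hV2.one_smul _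
  let s₁ : Rep.ofMulAction ℤ Γ X ⟶ E.X₂ := Rep.ofHom (ρ := Representation.ofMulAction ℤ Γ X)
    ⟨s₀, fun γ => by
      refine MonoidAlgebra.lhom_ext' fun x => LinearMap.ext_ring ?_
      show s₀ (Representation.ofMulAction ℤ Γ X γ (MonoidAlgebra.single x 1)) = E.X₂.ρ γ (s₀ (MonoidAlgebra.single x 1))
      rw [Representation.ofMulAction_single, hs₀, hs₀, hL]⟩
  have hsec : s₁ ≫ E.g = e₃.inv := by
    refine Rep.hom_ext (Representation.IntertwiningMap.toLinearMap_injective _ _ ?_)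
    refine MonoidAlgebra.lhom_ext' fun x => LinearMap.ext_ring ?_
    show E.g.hom (s₀ (MonoidAlgebra.single x 1)) = π x
    rw [hs₀, hgL]
  exact ⟨ShortComplex.Splitting.ofExactOfSection E hE.exact (e₃.hom ≫ s₁)
    (by rw [Category.assoc, hsec, Iso.hom_inv_id]) inferInstance⟩

theorem H1_of_splitting [Finite Γ] (Λ : Rep ℤ Γ)
    (h : ∀ (X : Type) [MulAction Γ X] [Finite X] (E : ShortComplex (Rep ℤ Γ)),
      E.ShortExact → Nonempty (E.X₁ ≅ Λ) → Nonempty (E.X₃ ≅ Rep.ofMulAction ℤ Γ X) → Nonempty E.Splitting)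
    (Γ' : Subgroup Γ) : Limits.IsZero (groupCohomology (Rep.res Γ'.subtype Λ) 1) := by
  classical
  rw [isZero_H1_iff]
  intro f
  let X := Γ ⧸ Γ'
  let t : X → Γ := Quotient.out
  have hmem : ∀ (γ : Γ) (x : X), (t (γ • x))⁻¹ * (γ * t x) ∈ Γ' := fun γ x => by
    rw [← QuotientGroup.eq, QuotientGroup.out_eq', ← smul_eq_mul]
    show γ • x = γ • (QuotientGroup.mk (t x) : X)
    rw [QuotientGroup.out_eq']
  let c : Γ → X → Λ := fun γ x => Λ.ρ (t (γ • x)) (f ⟨_, hmem γ x⟩)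
  have hf : ∀ a b : Γ', f (a * b) = Λ.ρ (a : Γ) (f b) + f a := (mem_cocycles₁_iff _).1 f.2
  have hc : ∀ γ δ x, c (γ * δ) x = Λ.ρ γ (c δ x) + c γ (δ • x) := by
    intro γ δ x
    simp only [c]
    have e : (⟨_, hmem (γ * δ) x⟩ : Γ') = ⟨_, hmem γ (δ • x)⟩ * ⟨_, hmem δ x⟩ := Subtype.ext (by
      show (t ((γ * δ) • x))⁻¹ * (γ * δ * t x) = _
      rw [Subgroup.coe_mul, mul_smul]
      group)
    rw [e, hf, map_add]
    simp only [mul_smul]
    congr 1
    simp only [← Module.End.mul_apply, ← map_mul]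
    congr 2
    group
  have hc1 : ∀ x, c 1 x = 0 := fun x => by
    have := hc 1 1 x
    simp only [mul_one, one_smul, map_one, Module.End.one_apply] at this
    exact left_eq_add.1 this
  let C : Γ → (MonoidAlgebra ℤ X →ₗ[ℤ] Λ) := fun γ =>
    Finsupp.linearCombination ℤ (c γ) ∘ₗ (MonoidAlgebra.coeffLinearEquiv ℤ).toLinearMap
  have hC : ∀ γ x, C γ (MonoidAlgebra.single x 1) = c γ x := fun γ x => by simp [C]; exact Λ.hV2.one_smul _
  let P : Representation ℤ Γ (Λ × MonoidAlgebra ℤ X) :=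
    { toFun := fun γ => LinearMap.prod (Λ.ρ γ ∘ₗ LinearMap.fst ℤ _ _ + C γ ∘ₗ LinearMap.snd ℤ _ _)
        (Representation.ofMulAction ℤ Γ X γ ∘ₗ LinearMap.snd ℤ _ _)
      map_one' := by
        have h1 : C 1 = 0 := MonoidAlgebra.lhom_ext' fun x => LinearMap.ext_ring (by
          show C 1 (MonoidAlgebra.single x 1) = 0
          rw [hC, hc1])
        refine LinearMap.ext fun p => ?_
        simp [h1]
      map_mul' := fun γ δ => by
        have h1 : C (γ * δ) = Λ.ρ γ ∘ₗ C δ + C γ ∘ₗ Representation.ofMulAction ℤ Γ X δ :=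
          MonoidAlgebra.lhom_ext' fun x => LinearMap.ext_ring (by
            show C (γ * δ) (MonoidAlgebra.single x 1) = Λ.ρ γ (C δ (MonoidAlgebra.single x 1)) +
              C γ (Representation.ofMulAction ℤ Γ X δ (MonoidAlgebra.single x 1))
            rw [Representation.ofMulAction_single, hC, hC, hC, hc])
        refine LinearMap.ext fun p => ?_
        simp [h1, map_mul]
        abel }
  let ι₁ : Λ ⟶ Rep.of P := Rep.ofHom (σ := P) ⟨LinearMap.inl ℤ _ _, fun γ => LinearMap.ext fun v => by simp [P]⟩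
  let π₂ : Rep.of P ⟶ Rep.ofMulAction ℤ Γ X :=
    Rep.ofHom (ρ := P) (σ := Representation.ofMulAction ℤ Γ X) ⟨LinearMap.snd ℤ _ _, fun γ => LinearMap.ext fun v => by simp [P]⟩
  let E : ShortComplex (Rep ℤ Γ) := ShortComplex.mk ι₁ π₂ (by
    refine Rep.hom_ext (Representation.IntertwiningMap.toLinearMap_injective _ _ (LinearMap.ext fun v => ?_))
    rfl)
  have hE : E.ShortExact := by
    haveI : Mono E.f := (Rep.mono_iff_injective _).2 (LinearMap.inl_injective (R := ℤ))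
    haveI : Epi E.g := (Rep.epi_iff_surjective _).2 fun y => ⟨(0, y), rfl⟩
    refine ShortComplex.ShortExact.mk ?_
    rw [ShortComplex.exact_map_iff_of_faithful (F := forget₂ (Rep ℤ Γ) (ModuleCat ℤ)) E |>.symm,
      ShortComplex.moduleCat_exact_iff]
    rintro ⟨v, p⟩ (hp : p = 0)
    exact ⟨v, by subst hp; rfl⟩
  obtain ⟨sp⟩ := h X E hE ⟨Iso.refl _⟩ ⟨Iso.refl _⟩
  let x₀ : X := QuotientGroup.mk 1
  obtain ⟨μ, hμ⟩ : ∃ μ : Λ, sp.s.hom (MonoidAlgebra.single x₀ 1) = (μ, MonoidAlgebra.single x₀ 1) := by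
    refine ⟨((sp.s.hom (MonoidAlgebra.single x₀ 1)) : Λ × MonoidAlgebra ℤ X).1, Prod.ext rfl ?_⟩
    show E.g.hom (sp.s.hom (MonoidAlgebra.single x₀ 1)) = _
    rw [← Rep.comp_apply, sp.s_g, Rep.id_apply]
  have ht0 : t x₀ ∈ Γ' := by
    have := QuotientGroup.out_eq' x₀
    rw [QuotientGroup.eq, mul_one] at this
    exact Γ'.inv_mem_iff.1 this
  refine ⟨-μ - f ⟨t x₀, ht0⟩, funext fun a => ?_⟩
  have hfix : (a : Γ) • x₀ = x₀ := by
    show (QuotientGroup.mk ((a : Γ) * 1) : X) = QuotientGroup.mk 1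
    rw [QuotientGroup.eq, mul_one, mul_one]
    exact Γ'.inv_mem a.2
  have key : Λ.ρ (a : Γ) μ + c a x₀ = μ := by
    have h1 := Rep.hom_comm_apply sp.s (a : Γ) (MonoidAlgebra.single x₀ (1 : ℤ))
    rw [hμ] at h1
    have h2 : E.X₃.ρ (a : Γ) (MonoidAlgebra.single x₀ (1 : ℤ)) = MonoidAlgebra.single x₀ (1 : ℤ) := by
      show Representation.ofMulAction ℤ Γ X (a : Γ) (MonoidAlgebra.single x₀ 1) = _
      rw [Representation.ofMulAction_single, hfix]
    rw [h2, hμ] at h1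
    have h3 := congrArg Prod.fst h1
    simp [E, P, hC] at h3
    exact h3.symm
  have hca : c a x₀ = f a + Λ.ρ (a : Γ) (f ⟨t x₀, ht0⟩) - f ⟨t x₀, ht0⟩ := by
    set τ : Γ' := ⟨t x₀, ht0⟩ with hτ
    have e : (⟨_, hmem a x₀⟩ : Γ') = τ⁻¹ * (a * τ) := Subtype.ext (by
      show (t ((a : Γ) • x₀))⁻¹ * ((a : Γ) * t x₀) = _
      rw [hfix]
      rfl)
    have h1 : f (τ * (τ⁻¹ * (a * τ))) = Λ.ρ (τ : Γ) (f (τ⁻¹ * (a * τ))) + f τ := hf _ _
    rw [mul_inv_cancel_left, hf] at h1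
    show Λ.ρ (t ((a : Γ) • x₀)) (f ⟨_, hmem a x₀⟩) = _
    rw [e, hfix, show t x₀ = (τ : Γ) from rfl, eq_sub_iff_add_eq, ← h1, add_comm]
  show Λ.ρ (a : Γ) (-μ - f ⟨t x₀, ht0⟩) - (-μ - f ⟨t x₀, ht0⟩) = f a
  rw [hca] at key
  rw [map_sub, map_neg, ← sub_eq_zero]
  rw [← sub_eq_zero] at key
  rw [← neg_eq_zero, ← key]
  abel

end Groth.Agent.Coflasque28
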